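import Mathlib
import Cfsg.Agent.H75.PlusFinal
import Cfsg.Agent.H75.Transfer
import Cfsg.Agent.S0296
import Cfsg.Agent.Prune
set_option linter.all false
prune_inst 0x7f00000000000000000000000000000000000000000000000000000000000000000000000000000000000000000000000000000000000000000000000000000000000000000000000000000000000000003fffffffffffffffffffffffffffbeffbdffffffff
open scoped Cfsg.Agent.FastGrp

/-!
# S3943, orthogonal groups: lower bounds for indices (helper500)

* `index_ge_of_hom` : if `K` is simple, `Y → K` is not trivial and all proper subgroups of `Y` have index at least `b`,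
  then all proper subgroups of `K` have index at least `b`;
* `plus_index_ge` : `PΩ⁺_{2m}(3)`, from `Ω_{2m-1}(3)`.
-/

set_option autoImplicit false

universe u v

namespace Cfsg.Agent.H500.AS

/-- **Indices of subgroups of a simple group from a subgroup.** -/
theorem index_ge_of_hom {K : Type u} {Y : Type v} [Group K] [Finite K] [IsSimpleGroup K] [Group Y] (f : Y →* K)
    (hf : ∃ y, f y ≠ 1) {b : ℕ} (hY : ∀ H : Subgroup Y, H ≠ ⊤ → b ≤ H.index) (H : Subgroup K) (hH : H ≠ ⊤) :
    b ≤ H.index := by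
  obtain ⟨g, hg⟩ : ∃ g : K, ¬ ∀ y, g * f y * g⁻¹ ∈ H := by
    by_contra hcon
    push Not at hcon
    have h1 : Subgroup.normalClosure (Set.range f) ≤ H := by
      rw [Subgroup.normalClosure, Subgroup.closure_le]
      intro x hx
      rw [Group.mem_conjugatesOfSet_iff] at hx
      obtain ⟨_, ⟨y, rfl⟩, hc⟩ := hx
      obtain ⟨c, hc⟩ := isConj_iff.1 hc
      rw [← hc]
      exact hcon c y
    have h2 : Subgroup.normalClosure (Set.range f) = ⊤ := by
      refine (IsSimpleGroup.eq_bot_or_eq_top_of_normal _ Subgroup.normalClosure_normal).resolve_left fun h => ?_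
      obtain ⟨y, hy⟩ := hf
      have h3 : f y ∈ Subgroup.normalClosure (Set.range f) := Subgroup.subset_normalClosure ⟨y, rfl⟩
      rw [h, Subgroup.mem_bot] at h3
      exact hy h3
    exact hH (top_le_iff.1 (h2 ▸ h1))
  let f' : Y →* K := (MulAut.conj g).toMonoidHom.comp f
  have h1 := hY (H.comap f') (fun h => hg fun y => by
    have h2 : y ∈ H.comap f' := by rw [h]; trivial
    exact h2)
  rw [Subgroup.index_comap] at h1
  have h3 : H.relIndex f'.range ≤ H.relIndex ⊤ := Subgroup.relIndex_le_of_le_right le_top (by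
    rw [Subgroup.relIndex_top_right]
    exact Subgroup.index_ne_zero_of_finite)
  rw [Subgroup.relIndex_top_right] at h3
  exact h1.trans h3

open Cfsg.Agent.LieClassical.OrthCore Cfsg.Agent.LieClassical.OrthTrans Cfsg.Agent.LieClassical.OrthForms
open Cfsg.Agent.H75.OrthIdx QuadraticMap

section ext

variable {F : Type u} [Field F] {U V : Type v} [AddCommGroup U] [Module F U] [AddCommGroup V] [Module F V]

/-- the extension of a linear map of `U` to `V = U ⊕ F` -/
def ext (L : (U × F) ≃ₗ[F] V) : (U ≃ₗ[F] U) →* (V ≃ₗ[F] V) where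
  toFun g := L.symm.trans ((g.prodCongr (LinearEquiv.refl F F)).trans L)
  map_one' := by
    ext v
    obtain ⟨⟨u, t⟩, rfl⟩ := L.surjective v
    simp
  map_mul' g h := by
    ext v
    obtain ⟨⟨u, t⟩, rfl⟩ := L.surjective v
    simp

theorem ext_apply (L : (U × F) ≃ₗ[F] V) (g : U ≃ₗ[F] U) (x : U × F) : ext L g (L x) = L (g x.1, x.2) := by
  simp [ext]

variable {Q : QuadraticForm F V} {QU : QuadraticForm F U} {L : (U × F) ≃ₗ[F] V} {c : F}

theorem polar_L (hL : ∀ x : U × F, Q (L x) = QU x.1 + c * x.2 ^ 2) (x y : U × F) :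
    polar (⇑Q) (L x) (L y) = polar (⇑QU) x.1 y.1 + 2 * c * (x.2 * y.2) := by
  simp only [polar, ← map_add, hL, Prod.fst_add, Prod.snd_add]
  ring

theorem ext_mem_E (hL : ∀ x : U × F, Q (L x) = QU x.1 + c * x.2 ^ 2) {g : U ≃ₗ[F] U} (hg : g ∈ E QU) :
    ext L g ∈ E Q := by
  have h1 : (E QU).map (ext L) ≤ E Q := by
    rw [E, MonoidHom.map_closure, Subgroup.closure_le]
    rintro _ ⟨_, ⟨u, w, hu, hw, rfl⟩, rfl⟩
    have hu' : Q (L (u, 0)) = 0 := by rw [hL, hu]; simp
    have hw' : polar Q (L (u, 0)) (L (w, 0)) = 0 := by rw [polar_L hL, hw]; simp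
    have h2 : ext L (siegel QU u w hu hw) = siegel Q (L (u, 0)) (L (w, 0)) hu' hw' := by
      ext v
      obtain ⟨x, rfl⟩ := L.surjective v
      rw [ext_apply, siegel_apply, siegel_apply, polar_L hL, polar_L hL, hL]
      simp only [← map_smul, ← map_add, ← map_sub]
      congr 1
      ext
      · simp
      · simp
    rw [h2]
    exact siegel_mem_E hu' hw'
  exact h1 ⟨g, hg, rfl⟩

end ext

/-! ### The embedding -/

section emb

variable {F : Type u} [Field F] (k : ℕ)

/-- `U ⊕ F → V`. -/
def embLin : ((Unit ⊕ (Fin k ⊕ Fin k) → F) × F) →ₗ[F] (Fin (k + 1) ⊕ Fin (k + 1) → F) where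
  toFun x := Sum.elim (Fin.snoc (α := fun _ => F) (fun i => x.1 (.inr (.inl i))) (x.1 (.inl ()) + x.2))
    (Fin.snoc (α := fun _ => F) (fun i => x.1 (.inr (.inr i))) (x.1 (.inl ()) - x.2))
  map_add' x y := by
    funext i
    rcases i with i | i
    · refine Fin.lastCases ?_ (fun i => ?_) i
      · simp; ring
      · simp
    · refine Fin.lastCases ?_ (fun i => ?_) i
      · simp; ring
      · simp
  map_smul' a x := by
    funext i
    rcases i with i | i
    · refine Fin.lastCases ?_ (fun i => ?_) i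
      · simp; ring
      · simp
    · refine Fin.lastCases ?_ (fun i => ?_) i
      · simp; ring
      · simp

theorem embLin_form (x : (Unit ⊕ (Fin k ⊕ Fin k) → F) × F) :
    plusForm (k + 1) F (embLin k x) = oddForm k F x.1 + (-1) * x.2 ^ 2 := by
  rw [coe_plusForm, coe_oddForm]
  simp only [Cfsg.quadFormPlus, Cfsg.quadFormOdd, Fin.sum_univ_castSucc, embLin]
  simp
  ring

theorem embLin_injective (h2 : (2 : F) ≠ 0) : Function.Injective (embLin (F := F) k) := by
  rw [← LinearMap.ker_eq_bot, LinearMap.ker_eq_bot']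
  rintro ⟨u, t⟩ h
  have e1 : ∀ i : Fin k, u (.inr (.inl i)) = 0 := by
    intro i
    have := congrFun h (.inl i.castSucc)
    simpa [embLin] using this
  have e2 : ∀ i : Fin k, u (.inr (.inr i)) = 0 := by
    intro i
    have := congrFun h (.inr i.castSucc)
    simpa [embLin] using this
  have e3 : u (.inl ()) + t = 0 := by
    have := congrFun h (.inl (Fin.last k))
    simpa [embLin] using this
  have e4 : u (.inl ()) - t = 0 := by
    have := congrFun h (.inr (Fin.last k))
    simpa [embLin] using this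
  have e5 : u (.inl ()) = 0 := by
    have : (2 : F) * u (.inl ()) = 0 := by linear_combination e3 + e4
    exact (mul_eq_zero.1 this).resolve_left h2
  have e6 : t = 0 := by rw [e5, zero_add] at e3; exact e3
  ext i
  · rcases i with i | i | i
    · exact e5
    · exact e1 i
    · exact e2 i
  · exact e6

noncomputable def emb (h2 : (2 : F) ≠ 0) :
    ((Unit ⊕ (Fin k ⊕ Fin k) → F) × F) ≃ₗ[F] (Fin (k + 1) ⊕ Fin (k + 1) → F) :=
  LinearEquiv.ofInjectiveOfFinrankEq (embLin k) (embLin_injective k h2) (by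
    rw [Module.finrank_prod, Module.finrank_fintype_fun_eq_card, Module.finrank_fintype_fun_eq_card,
      Module.finrank_self]
    simp only [Fintype.card_sum, Fintype.card_unit, Fintype.card_fin]
    omega)

end emb

/-- **Indices of subgroups of `PΩ⁺_{2m}(q)`, `q` odd, from `Ω_{2m-1}(q)`.** -/
theorem plus_index_ge {F : Type u} [Field F] [Fintype F] (h2 : (2 : F) ≠ 0) {k : ℕ} (hk : 3 ≤ k) {b : ℕ}
    (hb : ∀ H : Subgroup ((Unit ⊕ (Fin k ⊕ Fin k) → F) ≃ₗ[F] (Unit ⊕ (Fin k ⊕ Fin k) → F)), H ≤ E (oddForm k F) →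
      ¬ E (oddForm k F) ≤ H → b ≤ H.relIndex (E (oddForm k F)))
    (H : Subgroup (Cfsg.POmega F (Cfsg.quadFormPlus (k + 1) F))) (hH : H ≠ ⊤) : b ≤ H.index := by
  have hs := Cfsg.Agent.S0296.result (F := F) (k + 1) (by omega)
  have hG : Good (plusForm (k + 1) F) := good_plusForm (k + 1) (by omega)
  have hGo : Good (oddForm k F) := good_oddForm k hk h2
  revert H
  rw [← coe_plusForm] at hs ⊢
  intro H hH
  have hL := embLin_form (F := F) k
  let f0 : E (oddForm k F) →* E (plusForm (k + 1) F) :=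
    ((ext (emb k h2)).comp (E (oddForm k F)).subtype).codRestrict (E (plusForm (k + 1) F))
      (fun g => ext_mem_E (L := emb k h2) hL g.2)
  have hfin : Finite (Cfsg.POmega F ⇑(plusForm (k + 1) F)) := inferInstance
  refine index_ge_of_hom ((omHom hG).comp f0) ?_ (fun K hK => ?_) H hH
  · obtain ⟨g, hg, hg1⟩ := Cfsg.Agent.LieClassical.OrthSimple.good_E_ne_bot hGo
    refine ⟨⟨g, hg⟩, fun h => hg1 ?_⟩
    have h3 : f0 ⟨g, hg⟩ ∈ (omHom hG).ker := h
    rw [omHom_ker] at h3
    obtain ⟨c, hc⟩ := center_scalar hG h3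
    have hval : ∀ x, ((f0 ⟨g, hg⟩ : E (plusForm (k + 1) F)) : _ ≃ₗ[F] _) (emb k h2 x) = emb k h2 (g x.1, x.2) :=
      fun x => ext_apply _ _ _
    have h4 : (emb k h2) ((0 : _), (1 : F)) = c • (emb k h2) ((0 : _), (1 : F)) := by
      have h5 := hc (emb k h2 ((0 : _), (1 : F)))
      rw [hval, map_zero] at h5
      exact h5
    rw [← map_smul] at h4
    have h5 := congrArg Prod.snd ((emb k h2).injective h4)
    have h6 : c = 1 := by simpa using h5.symm
    ext u i
    have h7 := hc (emb k h2 (u, 0))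
    rw [hval, h6, one_smul] at h7
    have h8 := congrArg Prod.fst ((emb k h2).injective h7)
    exact congrFun h8 i
  · have h3 : (K.map (E (oddForm k F)).subtype).subgroupOf (E (oddForm k F)) = K := by
      rw [Subgroup.subgroupOf, Subgroup.comap_map_eq_self_of_injective (Subgroup.subtype_injective _)]
    have h4 := hb (K.map (E (oddForm k F)).subtype) (Subgroup.map_subtype_le K) (fun hle => hK (by
      rw [eq_top_iff]
      intro x _
      obtain ⟨y, hy, hyx⟩ := hle x.2
      have : y = x := Subtype.ext hyx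
      rw [← this]
      exact hy))
    rw [Subgroup.relIndex, h3] at h4
    exact h4

/-- **`PΩ⁺_{2m}(3)`.** -/
theorem plus_three_index_ge {F : Type u} [Field F] [Fintype F] (hF : Fintype.card F = 3) {k : ℕ} (hk : 3 ≤ k)
    (H : Subgroup (Cfsg.POmega F (Cfsg.quadFormPlus (k + 1) F))) (hH : H ≠ ⊤) :
    3 ^ k * (3 ^ k - 1) / 2 ≤ H.index := by
  have hcF : Nat.card F = 3 := by rw [Nat.card_eq_fintype_card, hF]
  have h2 : (2 : F) ≠ 0 := by
    intro h
    have h3 : CharP F 2 := CharTwo.of_one_ne_zero_of_two_eq_zero one_ne_zero h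
    have h4 := FiniteField.even_card_of_char_two (F := F) (ringChar.eq_iff.2 h3)
    rw [hF] at h4
    omega
  refine plus_index_ge h2 hk (fun K hKE hne => ?_) H hH
  have h1 := odd_lower (good_oddForm k hk h2) (odd_count (F := F) k hk h2) hKE hne
  rw [hcF] at h1
  have hY1 : 1 ≤ 3 ^ k := Nat.one_le_pow _ _ (by norm_num)
  have e2 : 3 ^ (2 * k) = 3 ^ k * (3 ^ k - 1) + 3 ^ k := by
    obtain ⟨y, hy⟩ : ∃ y, 3 ^ k = y + 1 := ⟨3 ^ k - 1, by omega⟩
    have e3 : 3 ^ (2 * k) = 3 ^ k * 3 ^ k := by ring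
    rw [e3, hy, Nat.add_sub_cancel]
    ring
  rw [e2] at h1
  apply Nat.div_le_of_le_mul
  omega

end Cfsg.Agent.H500.AS

private theorem dce_787dc065fe50 : _root_.True := by
  try have : _root_.True := by simp only [_root_.Cfsg.quadFormOdd.eq_1]
  try have : _root_.True := by simp only [_root_.Cfsg.quadFormPlus.eq_1]
  try have : _root_.True := by simp only [_root_.Cfsg.Agent.H500.AS.ext.eq_1]
  try have : _root_.True := by simp only [_root_.Cfsg.Agent.H500.AS.embLin.eq_1]
  exact _root_.True.intro
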